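import Cfsg.Agent.LV.Spor.Eng
import Cfsg.Agent.H573.Spor.All
import Cfsg.Agent.TAB.ON.Tab
import Cfsg.Agent.H555.Hall.RuIso
import Cfsg.Agent.H555.Hall.ThNonAb
import Cfsg.Agent.S1711
import Cfsg.Agent.H309.TT.No351
import Cfsg.Agent.H87.TitsData

/-!
# LV, the sporadic rows and the Tits row for `p = 3` and `p = 5` (helper67)

The only sporadic group with abelian Sylow `p`-subgroups of order at least `p ^ 3` is the O'Nan group, `p = 3`.
-/

set_option autoImplicit false

namespace Cfsg.Agent.LV.SpH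

open Cfsg Cfsg.Agent.H573 Cfsg.Agent.H573.Spor Cfsg.Agent.NotCT

universe u

/-- `J₄` contains `M₂₄` -/
theorem j4_3 {G : Type u} [Group G] [Finite G] (h : Cfsg.Spor.IsoJ4 G) : ¬ AbS 3 G := by
  have : Fact (Nat.Prime 3) := ⟨Nat.prime_three⟩
  intro hA
  obtain ⟨e⟩ := h
  obtain ⟨f⟩ := S1711.result
  have h1 : AbS 3 M24 := abS_of_inj (e.symm.toMonoidHom.comp ((Subgroup.subtype _).comp f.symm.toMonoidHom))
    (e.symm.injective.comp (Subtype.val_injective.comp f.symm.injective)) hA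
  exact m24_3 (G := M24) ⟨MulEquiv.refl _⟩ (pcent h1)

open Cfsg.Agent.H555.Hall Cfsg.Agent.H555.Hall.RuRow Cfsg.Agent.SporadicB Cfsg.Agent.SporadicB.RuOrder
  Cfsg.Agent.SporRec.TCUpperCert Cfsg.Agent.RuD.Letters Cfsg.Agent.RuD.Data in
theorem ru_3 {G : Type u} [Group G] [Finite G] (h : Cfsg.Spor.IsoRu G) : ¬ AbS 3 G := by
  have : Fact (Nat.Prime 3) := ⟨Nat.prime_three⟩
  have hN := Orders.ru h
  obtain ⟨e₀⟩ := h
  have e : G ≃* RuOrder.H := e₀.trans Cfsg.Agent.RuLat.Main.equiv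
  have : Finite RuOrder.H := Finite.of_equiv G e.toEquiv
  refine not_abS (a := 3) (by rw [hN]; norm_num) ?_
  refine nonab_of_rel e (by norm_num) (by rw [hN]; norm_num) (g := wprod ml wy) (h := wprod ml wx)
    (c := wprod ml [8]) (cube chk_y) (cube chk_x) (cube chk_d) ?_ ?_ ?_ RuRow.ne
  · have h := eq_of_eqK chk_dy
    rwa [wprod_append, wprod_append] at h
  · have h := eq_of_eqK chk_dx
    rwa [wprod_append, wprod_append] at h
  · have h := eq_of_eqK chk_xy
    rwa [wprod_append, wprod_append, wprod_append] at h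

theorem th_5 {G : Type u} [Group G] [Finite G] (h : Cfsg.Spor.IsoTh G) : ¬ AbS 5 G := by
  have : Fact (Nat.Prime 5) := ⟨Nat.prime_five⟩
  have hN := Orders.th h
  obtain ⟨e⟩ := h
  exact not_abS (a := 3) (by rw [hN]; norm_num) (H555.Hall.ThN.nonab e)

theorem tits_3 {G : Type u} [Group G] [Finite G] (h : Lie.IsoTits G) : ¬ AbS 3 G := by
  have : Fact (Nat.Prime 3) := ⟨Nat.prime_three⟩
  obtain ⟨e⟩ := h
  obtain ⟨D⟩ := H87.TitsData.dat_tits
  have : Finite Lie.TitsGroup := Finite.of_equiv G e.toEquiv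
  have hN : Nat.card Lie.TitsGroup = 17971200 := by rw [H87.TitsData.card_tits]; norm_num
  intro hA
  exact not_abS (G := Lie.TitsGroup) (p := 3) (a := 3) (by rw [hN]; norm_num)
    (fun S hS => H309.TT.nonab D hN (by rw [hS]; norm_num)) (abS_of_inj e.symm.toMonoidHom e.symm.injective hA)

theorem chk_on : chk TAB.ON.dON TAB.ON.tabON 3 4 = true := by decide +kernel

/-- **the O'Nan group, `p = 3`** -/
theorem on_hz {M : Ideal AlgInt} (hM : IsPModular 3 M) {G : Type u} [Group G] [Finite G] (h : Cfsg.Spor.IsoON G)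
    (hA : AbS 3 G) : HZ0 3 M G := by
  have : Fact (Nat.Prime 3) := ⟨Nat.prime_three⟩
  obtain ⟨e⟩ := h
  have : Finite Cfsg.Spor.ON := Finite.of_equiv G e.toEquiv
  obtain ⟨T, hm, -, -, hT⟩ := TAB.ON.exists_tab
  exact hz_equiv e (hz_tab hM ((pcent hA).congr e) hm hT chk_on)

theorem no_cube {G : Type u} [Group G] {p N : ℕ} (hN : Nat.card G = N) (h : ¬ p ^ 3 ∣ N) (h3 : p ^ 3 ∣ Nat.card G) :
    False := h (hN ▸ h3)

/-- `p = 3` -/
theorem spor_3 {G : Type u} [Group G] [Finite G] (hG : IsSporadicGroup G) (hA : AbS 3 G) (h3 : 3 ^ 3 ∣ Nat.card G) :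
    Cfsg.Spor.IsoON G := by
  have : Fact (Nat.Prime 3) := ⟨Nat.prime_three⟩
  have hc := pcent hA
  rcases hG with h | h | h | h | h | h | h | h | h | h | h | h | h | h | h | h | h | h | h | h | h | h | h | h | h | h
  · exact (no_cube (Orders.m11 h) (by norm_num) h3).elim
  · exact absurd hc (m12_3 h)
  · exact (no_cube (Orders.m22 h) (by norm_num) h3).elim
  · exact (no_cube (Orders.m23 h) (by norm_num) h3).elim
  · exact absurd hc (m24_3 h)
  · exact (no_cube (Orders.j1 h) (by norm_num) h3).elim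
  · exact absurd hc (j2_3 h)
  · exact absurd hc (j3_3 h)
  · exact absurd hA (j4_3 h)
  · exact absurd hc (co1_3 h)
  · exact absurd hc (co2_3 h)
  · exact absurd hc (co3_3 h)
  · exact absurd hc (mcl_3 h)
  · exact (no_cube (Orders.hs h) (by norm_num) h3).elim
  · exact absurd hc (suz_3 h)
  · exact absurd hc (he_3 h)
  · exact absurd hA (ru_3 h)
  · exact h
  · exact absurd hc (ly_3 h)
  · exact absurd hc (fi22_3 h)
  · exact absurd hc (fi23_3 h)
  · exact absurd hc (fi24_3 h)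
  · exact absurd hc (hn_3 h)
  · exact absurd hc (th_3 h)
  · exact absurd hc (b_3 h)
  · exact absurd hc (m_3 h)

/-- `p = 5` -/
theorem spor_5 {G : Type u} [Group G] [Finite G] (hG : IsSporadicGroup G) (hA : AbS 5 G) (h3 : 5 ^ 3 ∣ Nat.card G) :
    False := by
  have : Fact (Nat.Prime 5) := ⟨Nat.prime_five⟩
  have hc := pcent hA
  rcases hG with h | h | h | h | h | h | h | h | h | h | h | h | h | h | h | h | h | h | h | h | h | h | h | h | h | h
  · exact no_cube (Orders.m11 h) (by norm_num) h3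
  · exact no_cube (Orders.m12 h) (by norm_num) h3
  · exact no_cube (Orders.m22 h) (by norm_num) h3
  · exact no_cube (Orders.m23 h) (by norm_num) h3
  · exact no_cube (Orders.m24 h) (by norm_num) h3
  · exact no_cube (Orders.j1 h) (by norm_num) h3
  · exact no_cube (Orders.j2 h) (by norm_num) h3
  · exact no_cube (Orders.j3 h) (by norm_num) h3
  · exact no_cube (Orders.j4 h) (by norm_num) h3
  · exact co1_5 h hc
  · exact co2_5 h hc
  · exact co3_5 h hc
  · exact mcl_5 h hc
  · exact hs_5 h hc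
  · exact no_cube (Orders.suz h) (by norm_num) h3
  · exact no_cube (Orders.he h) (by norm_num) h3
  · exact ru_5 h hc
  · exact no_cube (Orders.on h) (by norm_num) h3
  · exact ly_5 h hc
  · exact no_cube (Orders.fi22 h) (by norm_num) h3
  · exact no_cube (Orders.fi23 h) (by norm_num) h3
  · exact no_cube (Orders.fi24 h) (by norm_num) h3
  · exact hn_5 h hc
  · exact th_5 h hA
  · exact b_5 h hc
  · exact m_5 h hc

/-- **the sporadic row, `p = 3`** -/
theorem rowSpor3 : Row 3 fun S _ => IsSporadicGroup S :=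
  fun _ hM _ _ _ _ _ hS hA h3 _ => on_hz hM (spor_3 hS hA h3) hA

/-- **the sporadic row, `p = 5`** -/
theorem rowSpor5 : Row 5 fun S _ => IsSporadicGroup S :=
  fun _ _ _ _ _ _ _ hS hA h3 _ => (spor_5 hS hA h3).elim

/-- **the Tits row, `p` odd** -/
theorem rowTits {p : ℕ} (hp : p.Prime) (h2 : p ≠ 2) : Row p fun S _ => Lie.IsoTits S := by
  intro M _ S _ _ _ _ hS hA h3 _
  by_cases h : p = 3
  · subst h
    exact absurd hA (tits_3 hS)
  obtain ⟨e⟩ := hS
  rw [Nat.card_congr e.toEquiv, H87.TitsData.card_tits] at h3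
  have c2 : (p ^ 3).Coprime (2 ^ 11) :=
    Nat.Coprime.pow _ _ ((Nat.coprime_primes hp Nat.prime_two).2 h2)
  have c3 : (p ^ 3).Coprime (3 ^ 3) :=
    Nat.Coprime.pow _ _ ((Nat.coprime_primes hp Nat.prime_three).2 h)
  rw [mul_assoc, mul_assoc] at h3
  have h4 := c3.dvd_of_dvd_mul_left (c2.dvd_of_dvd_mul_left h3)
  have h5 : p ∣ 5 ^ 2 * 13 := (dvd_pow_self p three_ne_zero).trans h4
  exfalso
  rcases hp.dvd_mul.1 h5 with h6 | h6
  · obtain rfl := (Nat.prime_dvd_prime_iff_eq hp Nat.prime_five).1 (hp.dvd_of_dvd_pow h6)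
    exact absurd h4 (by norm_num)
  · obtain rfl := (Nat.prime_dvd_prime_iff_eq hp (by norm_num)).1 h6
    exact absurd h4 (by norm_num)

theorem rowTits3 : Row 3 fun S _ => Lie.IsoTits S := rowTits Nat.prime_three (by norm_num)

theorem rowTits5 : Row 5 fun S _ => Lie.IsoTits S := rowTits Nat.prime_five (by norm_num)

end Cfsg.Agent.LV.SpH
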