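import Cfsg.Agent.LV.Red.Defs
import Cfsg.Agent.TAB.Use.Main
import Cfsg.Agent.Blocks.Kulshammer
import Cfsg.Agent.H404.VanishBlock
import Cfsg.Agent.H700.PrinExt
import Cfsg.Agent.H573.Spor.Base

/-!
# LV, sporadic rows: tools (helper67)

* `pcent`: abelian Sylow subgroups give `PCent`;
* `hz_tab`: height zero in the principal block from a character table.
-/

set_option autoImplicit false

namespace Cfsg.Agent.LV.SpH

open Cfsg Cfsg.Agent.TAB.Eng Cfsg.Agent.TAB.Use Cfsg.Agent.H573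

universe u v

section

variable {G : Type u} [Group G] [Finite G] {p : ℕ} [hp : Fact p.Prime]

theorem comm_of_pgroup (h : AbS p G) {Q : Subgroup G} (hQ : IsPGroup p Q) {a b : G} (ha : a ∈ Q) (hb : b ∈ Q) :
    a * b = b * a := by
  obtain ⟨P, hP⟩ := hQ.exists_le_sylow
  exact congrArg Subtype.val ((h P).is_comm.comm ⟨a, hP ha⟩ ⟨b, hP hb⟩)

theorem pcent (h : AbS p G) : PCent p G := by
  refine PCent.of_sylow fun x hx => ?_
  obtain ⟨k, hk⟩ := hx
  have h1 : IsPGroup p (Subgroup.zpowers x) := IsPGroup.of_card (n := k) (by rw [Nat.card_zpowers, hk])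
  obtain ⟨P, hP⟩ := h1.exists_le_sylow
  exact ⟨P, fun y hy => comm_of_pgroup h P.2 hy (hP (Subgroup.mem_zpowers x))⟩

theorem abS_of_inj {H : Type v} [Group H] (f : H →* G) (hf : Function.Injective f) (h : AbS p G) : AbS p H := by
  intro T
  refine ⟨⟨fun a b => Subtype.ext (hf ?_)⟩⟩
  show f (a.1 * b.1) = f (b.1 * a.1)
  rw [map_mul, map_mul]
  exact comm_of_pgroup h (T.2.map f) ⟨a.1, a.2, rfl⟩ ⟨b.1, b.2, rfl⟩

/-- a nonabelian subgroup of the order of the Sylow subgroups -/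
theorem not_abS {a : ℕ} (ha : p ^ a ∣ Nat.card G)
    (h : ∀ S : Subgroup G, Nat.card S = p ^ a → ∃ x ∈ S, ∃ y ∈ S, x * y ≠ y * x) : ¬ AbS p G := by
  intro hA
  obtain ⟨S, hS⟩ := Sylow.exists_subgroup_card_pow_prime p ha
  obtain ⟨x, hx, y, hy, hxy⟩ := h S hS
  exact hxy (comm_of_pgroup hA (IsPGroup.of_card hS) hx hy)

variable {M : Ideal AlgInt}

omit hp [Finite G] in
theorem hz_equiv {H : Type v} [Group H] (e : G ≃* H) (h : HZ0 p M H) : HZ0 p M G := by
  intro θ hθ hd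
  refine h _ (H700.PrinExt.mapIrr_mem e.symm hθ) ?_
  rw [H700.PrinExt.charDegree_mapIrr]
  exact hd

/-- the central character on a type -/
theorem not_mem_type {D : Dat} {T : TD G D} (hm : T.Mass) (hM : IsPModular p M) {χ : IrrCharacter G} {w : List ℤ}
    (hw : ∀ g, (χ : G → ℂ) g = ((w.getD (T.ty g) 0 : ℤ) : ℂ)) {d : ℕ} (hd : (χ : G → ℂ) 1 = d) {t : ℕ} (ht : t < D.n)
    {c : ℤ} (hc : (D.cnt t : ℤ) * w.getD t 0 = d * c) (h : ¬ (p : ℤ) ∣ c - D.cnt t) : χ ∉ principalBlock M G := by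
  classical
  intro hχ
  have := Fintype.ofFinite G
  have h1 := Blocks.Kulshammer.memLocalIdeal_lin_sub hM hχ (S := {g | T.ty g = t})
    (fun g k => by simp only [Set.mem_ofPred_eq, T.conj])
  have h2 : Nat.card ({g | T.ty g = t} : Set G) = D.cnt t := hm.2 t ht
  have h3 : Blocks.ConvCentral.lin (χ : G → ℂ) (({g | T.ty g = t} : Set G).indicator 1) =
      (D.cnt t : ℂ) * ((w.getD t 0 : ℤ) : ℂ) := by
    rw [Blocks.ConvCentral.lin_def, ← h2]
    have h4 : ∀ g : G, (({g | T.ty g = t} : Set G).indicator 1 g : ℂ) * (χ : G → ℂ) g =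
        if T.ty g = t then ((w.getD t 0 : ℤ) : ℂ) else 0 := by
      intro g
      rw [Set.indicator_apply, hw]
      by_cases hg : T.ty g = t
      · rw [if_pos (show g ∈ {g | T.ty g = t} from hg), if_pos hg, hg, Pi.one_apply, one_mul]
      · rw [if_neg (show g ∉ {g | T.ty g = t} from hg), if_neg hg, zero_mul]
    rw [Finset.sum_congr rfl fun g _ => h4 g, ← Finset.sum_filter, Finset.sum_const, nsmul_eq_mul,
      ← Fintype.card_subtype, ← Nat.card_eq_fintype_card]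
    rfl
  have h5 : (d : ℂ) ≠ 0 := hd ▸ Blocks.ConvCentral.irr_one_ne_zero χ.2
  have h6 : (D.cnt t : ℂ) * ((w.getD t 0 : ℤ) : ℂ) = d * (c : ℂ) := by exact_mod_cast hc
  rw [h3, h2, hd, h6, mul_div_cancel_left₀ _ h5] at h1
  refine h ((Blocks.Local.memLocalIdeal_intCast_iff hM _).1 ?_)
  push_cast
  exact h1

end

/-- the check: a degree divisible by `p` is of defect zero, or its row leaves the principal block on a type -/
def chk (D : Dat) (R : Rows) (p e : ℕ) : Bool :=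
  (D.N % p == 0) && (D.N % p ^ e == 0) && (D.N % p ^ (e + 1) != 0) &&
  (List.range R.n).all fun j => (R.d j % p != 0) || (R.d j % p ^ e == 0) ||
    R.rel.any fun r => (r.1 == [(j, 1)]) && (List.range D.n).any fun t =>
      ((D.cnt t : ℤ) * r.2.getD t 0 % (R.d j : ℤ) == 0) &&
        (((D.cnt t : ℤ) * r.2.getD t 0 / (R.d j : ℤ) - D.cnt t) % (p : ℤ) != 0)

/-- **height zero from a table** -/
theorem hz_tab {G : Type u} [Group G] [Finite G] {p : ℕ} [hp : Fact p.Prime] {M : Ideal AlgInt}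
    (hM : IsPModular p M) (hc : PCent p G) {D : Dat} {T : TD G D} (hm : T.Mass) {R : Rows} (hT : Tab T R) {e : ℕ}
    (h : chk D R p e = true) : HZ0 p M G := by
  intro χ hχ hd
  obtain ⟨ψ, hE, hR⟩ := hT
  obtain ⟨j, hj, hψ⟩ := hE.all _ χ.2
  simp only [chk, Bool.and_eq_true, beq_iff_eq, bne_iff_ne, List.all_eq_true, List.mem_range, Bool.or_eq_true,
    List.any_eq_true] at h
  obtain ⟨⟨⟨h0, h1⟩, h2⟩, h3⟩ := h
  have hdeg : (χ : G → ℂ) 1 = (R.d j : ℂ) := by rw [hψ]; exact hE.deg j hj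
  rw [Blocks.Basic.charDegree_of_eq hdeg] at hd
  rcases h3 j hj with (h4 | h4) | ⟨r, hr, h4, t, ht, h5, h6⟩
  · exact h4 (Nat.mod_eq_zero_of_dvd hd)
  · obtain ⟨x, hx⟩ := exists_prime_orderOf_dvd_card' (G := G) p (by rw [hm.1]; exact Nat.dvd_of_mod_eq_zero h0)
    refine H404.VanishBlock.ne_zero_of_principal hM hχ (hc x ⟨1, by rw [hx, pow_one]⟩) ?_
    exact zero_of_dz χ.2 hdeg hp.out (by rw [hm.1]; exact Nat.dvd_of_mod_eq_zero h1)
      (by rw [hm.1]; exact fun h7 => h2 (Nat.mod_eq_zero_of_dvd h7)) (Nat.dvd_of_mod_eq_zero h4) (by rw [hx])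
  · refine not_mem_type hm hM (w := r.2) (fun g => ?_) hdeg ht
      (Int.mul_ediv_cancel' (Int.dvd_of_emod_eq_zero h5)).symm (fun h7 => h6 (Int.emod_eq_zero_of_dvd h7)) hχ
    have h7 := hR r hr g
    rw [h4] at h7
    rw [hψ, ← h7]
    simp

end Cfsg.Agent.LV.SpH
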